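import Groth.Agent.Lib.SepColim25.Basic

/-!
# Diagrams over a base space and descent of sections
-/

universe u v w

set_option backward.isDefEq.respectTransparency.types false

open CategoryTheory CategoryTheory.Limits AlgebraicGeometry
open AlgSp Groth.Agent.AlgSpace Groth.Agent.AlgSpDecent Groth.Agent.AlgSpDescent Groth.Agent.SepColim25

noncomputable section

namespace Groth.Agent.EtColim25

variable {S : Scheme.{u}} {B : Space S}

/-- A morphism over the base from a map of sheaves. -/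
def mkOver {X Y : Over B} (g : X.left.obj ⟶ Y.left.obj) (w : g ≫ Y.hom.hom = X.hom.hom) : X ⟶ Y :=
  Over.homMk (ObjectProperty.homMk g) (InducedCategory.hom_ext w)

@[simp] theorem mkOver_val {X Y : Over B} (g : X.left.obj ⟶ Y.left.obj) (w : g ≫ Y.hom.hom = X.hom.hom) :
    (mkOver g w).left.hom = g := rfl

theorem over_ext {X Y : Over B} {g h : X ⟶ Y} (e : g.left.hom = h.left.hom) : g = h :=
  Over.OverMorphism.ext (InducedCategory.hom_ext e)

theorem w_over {X Y : Over B} (g : X ⟶ Y) : g.left.hom ≫ Y.hom.hom = X.hom.hom :=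
  congrArg InducedCategory.Hom.hom (Over.w g)

variable {I : Type v} [Category.{w} I] {D : I ⥤ Over B}

/-- The pullback of a family of maps out of a diagram along an etale map. -/
theorem exists_sys {T Q : Space S} (ψ : ∀ i, (D.obj i).left.obj ⟶ T.obj)
    (hψ : ∀ ⦃i j : I⦄ (g : i ⟶ j), (D.map g).left.hom ≫ ψ j = ψ i) (q : Q.obj ⟶ T.obj) (hq : IsEtaleMor q) :
    ∃ (D' : I ⥤ Over B) (α : D' ⟶ D) (σ : ∀ i, (D'.obj i).left.obj ⟶ Q.obj),
      (∀ ⦃i j : I⦄ (g : i ⟶ j), (D'.map g).left.hom ≫ σ j = σ i) ∧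
      (∀ i, IsPullback (α.app i).left.hom (σ i) (ψ i) q) ∧
      (∀ i, IsEtaleMor (α.app i).left.hom) ∧
      (∀ ⦃i j : I⦄ (g : i ⟶ j), IsPullback (D'.map g).left.hom (α.app i).left.hom (α.app j).left.hom
        (D.map g).left.hom) := by
  have he : ∀ i, IsEtaleMor (pullback.fst (ψ i) q) := fun i =>
    etale_of_isPullback (X' := pb (ψ i) q) (IsPullback.of_hasPullback (ψ i) q).flip hq
  let ob : I → Over B := fun i =>
    Over.mk (ObjectProperty.homMk (pullback.fst (ψ i) q ≫ (D.obj i).hom.hom) : pb (ψ i) q ⟶ B)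
  let m : ∀ ⦃i j : I⦄, (i ⟶ j) → (ob i ⟶ ob j) := fun i j g =>
    mkOver (pullback.map (ψ i) q (ψ j) q (D.map g).left.hom (𝟙 _) (𝟙 _) (by rw [hψ g]; simp) (by simp)) (by
      change _ ≫ pullback.fst (ψ j) q ≫ (D.obj j).hom.hom = pullback.fst (ψ i) q ≫ (D.obj i).hom.hom
      simp only [pullback.map, pullback.lift_fst_assoc, Category.assoc, w_over])
  let D' : I ⥤ Over B :=
    { obj := ob
      map := fun g => m g
      map_id := fun i => over_ext (by
        apply pullback.hom_ext <;> simp [m, pullback.map, pullback.lift_fst, pullback.lift_snd] <;> rfl)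
      map_comp := fun f g => over_ext (by
        apply pullback.hom_ext <;>
          simp [m, pullback.map, pullback.lift_fst, pullback.lift_snd, pullback.lift_fst_assoc,
            pullback.lift_snd_assoc]) }
  let α : D' ⟶ D :=
    { app := fun i => mkOver (X := ob i) (pullback.fst (ψ i) q) rfl
      naturality := fun i j g => over_ext (by exact pullback.lift_fst _ _ _) }
  refine ⟨D', α, fun i => pullback.snd (ψ i) q, fun i j g => ?_, fun i => IsPullback.of_hasPullback _ _,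
    he, fun i j g => ?_⟩
  · exact (pullback.lift_snd _ _ _).trans (Category.comp_id _)
  · refine IsPullback.of_right ?_ ?_ (IsPullback.of_hasPullback (ψ j) q).flip
    · have e : (D'.map g).left.hom ≫ pullback.snd (ψ j) q = pullback.snd (ψ i) q :=
        (pullback.lift_snd _ _ _).trans (Category.comp_id _)
      rw [e, hψ g]
      exact (IsPullback.of_hasPullback (ψ i) q).flip
    · exact congrArg (fun e => e.left.hom) (α.naturality g)

/-- Base change to the diagram is fully faithful on etale spaces over the cocone point. -/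
def FF (c : Cocone D) : Prop :=
  ∀ (U U' : Over B) (u : U ⟶ c.pt) (u' : U' ⟶ c.pt), IsEtaleMor u.left.hom → IsEtaleMor u'.left.hom →
      ∀ (DU DU' : I ⥤ Over B) (αU : DU ⟶ D) (αU' : DU' ⟶ D) (ιU : DU ⟶ (Functor.const I).obj U)
        (ιU' : DU' ⟶ (Functor.const I).obj U'),
        (∀ i, IsPullback (ιU.app i).left.hom (αU.app i).left.hom u.left.hom (c.ι.app i).left.hom) →
        (∀ i, IsPullback (ιU'.app i).left.hom (αU'.app i).left.hom u'.left.hom (c.ι.app i).left.hom) →
        ∀ (β : DU ⟶ DU'), β ≫ αU' = αU →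
          ∃! m : U ⟶ U', m ≫ u' = u ∧ ∀ i, ιU.app i ≫ m = β.app i ≫ ιU'.app i

variable {c : Cocone D}

/-- The coprojections of a cocone are natural. -/
theorem cocone_w (c : Cocone D) ⦃i j : I⦄ (g : i ⟶ j) :
    (D.map g).left.hom ≫ (c.ι.app j).left.hom = (c.ι.app i).left.hom :=
  congrArg (fun e => e.left.hom) (c.w g)

variable {R : Space S} {a : R.obj ⟶ c.pt.left.obj} {D' : I ⥤ Over B} {α : D' ⟶ D}
  {σ : ∀ i, (D'.obj i).left.obj ⟶ R.obj}

/-- Sections of etale spaces over the base change are given on the diagram. -/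
theorem existsUnique_sect (hff : FF c) (ha : IsEtaleMor a)
    (hσ : ∀ ⦃i j : I⦄ (g : i ⟶ j), (D'.map g).left.hom ≫ σ j = σ i)
    (hsq : ∀ i, IsPullback (α.app i).left.hom (σ i) (c.ι.app i).left.hom a) {W : Space S}
    (e : W.obj ⟶ R.obj) (he : IsEtaleMor e) (τ : ∀ i, (D'.obj i).left.obj ⟶ W.obj) (hτ : ∀ i, τ i ≫ e = σ i)
    (hτn : ∀ ⦃i j : I⦄ (g : i ⟶ j), (D'.map g).left.hom ≫ τ j = τ i) :
    ∃! m : R.obj ⟶ W.obj, m ≫ e = 𝟙 _ ∧ ∀ i, σ i ≫ m = τ i := by
  let RO : Over B := Over.mk (ObjectProperty.homMk (a ≫ c.pt.hom.hom) : R ⟶ B)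
  let WO : Over B := Over.mk (ObjectProperty.homMk (e ≫ a ≫ c.pt.hom.hom) : W ⟶ B)
  let uR : RO ⟶ c.pt := mkOver (X := RO) a rfl
  let uW : WO ⟶ c.pt := mkOver (X := WO) (e ≫ a) (Category.assoc _ _ _)
  have hσw : ∀ i, σ i ≫ a ≫ c.pt.hom.hom = (D'.obj i).hom.hom := fun i => by
    rw [← Category.assoc, ← (hsq i).w, Category.assoc]
    exact (congrArg ((α.app i).left.hom ≫ ·) (w_over (c.ι.app i))).trans (w_over (α.app i))
  let ιR : D' ⟶ (Functor.const I).obj RO :=
    { app := fun i => mkOver (Y := RO) (σ i) (hσw i)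
      naturality := fun i j g => over_ext (by
        change (D'.map g).left.hom ≫ σ j = σ i ≫ 𝟙 _
        rw [hσ g, Category.comp_id]) }
  have hR : ∀ i, IsPullback (ιR.app i).left.hom (α.app i).left.hom uR.left.hom (c.ι.app i).left.hom :=
    fun i => (hsq i).flip
  obtain ⟨DW, αW, σW, hσW, hsqW, -, -⟩ := exists_sys (fun i => (c.ι.app i).left.hom) (cocone_w c) (e ≫ a)
    (etale_comp he ha)
  have hσWw : ∀ i, σW i ≫ e ≫ a ≫ c.pt.hom.hom = (DW.obj i).hom.hom := fun i => by
    rw [← Category.assoc e, ← Category.assoc (σW i), ← (hsqW i).w, Category.assoc]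
    exact (congrArg ((αW.app i).left.hom ≫ ·) (w_over (c.ι.app i))).trans (w_over (αW.app i))
  let ιW : DW ⟶ (Functor.const I).obj WO :=
    { app := fun i => mkOver (Y := WO) (σW i) (hσWw i)
      naturality := fun i j g => over_ext (by
        change (DW.map g).left.hom ≫ σW j = σW i ≫ 𝟙 _
        rw [hσW g, Category.comp_id]) }
  let l : ∀ i, (D'.obj i).left.obj ⟶ (DW.obj i).left.obj := fun i =>
    (hsqW i).lift (α.app i).left.hom (τ i) (by rw [(hsq i).w, ← Category.assoc, hτ i])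
  have hl₁ : ∀ i, l i ≫ (αW.app i).left.hom = (α.app i).left.hom := fun i => (hsqW i).lift_fst _ _ _
  have hl₂ : ∀ i, l i ≫ σW i = τ i := fun i => (hsqW i).lift_snd _ _ _
  let β : D' ⟶ DW :=
    { app := fun i => mkOver (l i) (by rw [← w_over (αW.app i), reassoc_of% (hl₁ i), w_over])
      naturality := fun i j g => over_ext (by
        change (D'.map g).left.hom ≫ l j = l i ≫ (DW.map g).left.hom
        apply (hsqW j).hom_ext
        · rw [Category.assoc, hl₁, Category.assoc,
            show (DW.map g).left.hom ≫ (αW.app j).left.hom = (αW.app i).left.hom ≫ (D.map g).left.hom from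
              congrArg (fun e => e.left.hom) (αW.naturality g), reassoc_of% (hl₁ i)]
          exact congrArg (fun e => e.left.hom) (α.naturality g)
        · rw [Category.assoc, hl₂, Category.assoc, hσW g, hl₂, hτn g]) }
  obtain ⟨m, ⟨hm₁, hm₂⟩, hu⟩ := hff RO WO uR uW ha (etale_comp he ha) D' DW α αW ιR ιW hR
    (fun i => (hsqW i).flip) β (NatTrans.ext (funext fun i => over_ext (hl₁ i)))
  have hm₁' : m.left.hom ≫ e ≫ a = a := congrArg (fun e => e.left.hom) hm₁
  have hm₂' : ∀ i, σ i ≫ m.left.hom = τ i := fun i =>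
    (congrArg (fun e => e.left.hom) (hm₂ i)).trans (hl₂ i)
  -- the composite with the projection is the identity
  obtain ⟨m₀, -, hu₀⟩ := hff RO RO uR uR ha ha D' D' α α ιR ιR hR hR (𝟙 D') (Category.id_comp α)
  have hme : m.left.hom ≫ e = 𝟙 _ := by
    let m₁ : RO ⟶ RO := mkOver (X := RO) (Y := RO) (m.left.hom ≫ e) (by
      change (m.left.hom ≫ e) ≫ a ≫ c.pt.hom.hom = a ≫ c.pt.hom.hom
      rw [Category.assoc, ← Category.assoc e, ← Category.assoc m.left.hom, hm₁'])
    have h₁ : m₁ = m₀ := hu₀ m₁ ⟨over_ext (by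
      change (m.left.hom ≫ e) ≫ a = a
      rw [Category.assoc, hm₁']), fun i => over_ext (by
      change σ i ≫ m.left.hom ≫ e = 𝟙 _ ≫ σ i
      rw [reassoc_of% (hm₂' i), hτ, Category.id_comp])⟩
    have h₂ : 𝟙 RO = m₀ := hu₀ (𝟙 RO) ⟨Category.id_comp _, fun i => by simp⟩
    exact congrArg (fun e => e.left.hom) (h₁.trans h₂.symm)
  refine ⟨m.left.hom, ⟨hme, hm₂'⟩, fun n hn => ?_⟩
  have := hu (mkOver (X := RO) (Y := WO) n (by
    change n ≫ e ≫ a ≫ c.pt.hom.hom = a ≫ c.pt.hom.hom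
    rw [reassoc_of% hn.1])) ⟨over_ext (by
      change n ≫ e ≫ a = a
      rw [reassoc_of% hn.1]), fun i => over_ext ((hn.2 i).trans (hl₂ i).symm)⟩
  exact congrArg (fun e => e.left.hom) this

/-- Maps into an etale space over the base are determined on the diagram. -/
theorem eq_of_sect (hff : FF c) (ha : IsEtaleMor a)
    (hσ : ∀ ⦃i j : I⦄ (g : i ⟶ j), (D'.map g).left.hom ≫ σ j = σ i)
    (hsq : ∀ i, IsPullback (α.app i).left.hom (σ i) (c.ι.app i).left.hom a) {E T : Space S}
    (b : E.obj ⟶ T.obj) (hb : IsEtaleMor b) (x y : R.obj ⟶ E.obj) (hxy : x ≫ b = y ≫ b)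
    (h : ∀ i, σ i ≫ x = σ i ≫ y) : x = y := by
  let e := pullback.fst (x ≫ b) b
  have he : IsEtaleMor e := etale_of_isPullback (X' := pb (x ≫ b) b)
    (IsPullback.of_hasPullback (x ≫ b) b).flip hb
  let X₁ : R.obj ⟶ (pb (x ≫ b) b).obj := pullback.lift (𝟙 _) x (by simp)
  let Y₁ : R.obj ⟶ (pb (x ≫ b) b).obj := pullback.lift (𝟙 _) y (by simp [hxy])
  obtain ⟨m, -, hu⟩ := existsUnique_sect hff ha hσ hsq (W := pb (x ≫ b) b) e he (fun i => σ i ≫ X₁)
    (fun i => by simp [X₁, e, pullback.lift_fst]) (fun i j g => by rw [reassoc_of% (hσ g)])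
  have h₁ : X₁ = m := hu X₁ ⟨pullback.lift_fst _ _ _, fun _ => rfl⟩
  have h₂ : Y₁ = m := hu Y₁ ⟨pullback.lift_fst _ _ _, fun i => by
    apply pullback.hom_ext
    · simp [X₁, Y₁, pullback.lift_fst]
    · simp [X₁, Y₁, pullback.lift_snd, h]⟩
  have := congrArg (· ≫ pullback.snd (x ≫ b) b) (h₁.trans h₂.symm)
  simpa [X₁, Y₁, pullback.lift_snd] using this

end Groth.Agent.EtColim25
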