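import Groth.Agent.Lib.EtColim25.Basic
import Groth.Agent.Lib.AlgSpDescent.LocalST

/-!
# Extending maps into affine schemes etale locally over a cocone point
-/

universe u v w

set_option backward.isDefEq.respectTransparency.types false

open CategoryTheory CategoryTheory.Limits AlgebraicGeometry
open AlgSp Groth.Agent.AlgSpace Groth.Agent.AlgSpDecent Groth.Agent.AlgSpDescent Groth.Agent.SepColim25

noncomputable section

namespace Groth.Agent.EtColim25

variable {S : Scheme.{u}} {B : Space S} {I : Type v} [Category.{w} I] {D : I ⥤ Over B}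

/-- Maps into affine schemes over affine charts of the base are given on the diagram. -/
def AffExt (c : Cocone D) : Prop :=
  ∀ (B' Zs Us : Over S) (b : (AlgSp.yon S).obj B' ⟶ B.obj) (z : Zs ⟶ B') {XB : AlgSp.Space S}
      (x₁ : XB ⟶ c.pt.left) (x₂ : XB.obj ⟶ (AlgSp.yon S).obj B') (uu : (AlgSp.yon S).obj Us ⟶ XB.obj)
      (DU : I ⥤ AlgSp.Space S) (αU : DU ⟶ D ⋙ Over.forget B)
      (ιU : DU ⟶ (Functor.const I).obj ((AlgSp.ofScheme S).obj Us))
      (φ : DU ⟶ (Functor.const I).obj ((AlgSp.ofScheme S).obj Zs)),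
      IsAffine B'.left → IsAffine Zs.left → IsAffine Us.left → AlgSp.RepWith @Etale b →
      IsPullback x₁.hom x₂ c.pt.hom.hom b → AlgSp.RepWith @Etale uu →
      (∀ i, IsPullback (ιU.app i).hom (αU.app i).hom (uu ≫ x₁.hom) (c.ι.app i).left.hom) →
      (∀ i, (φ.app i).hom ≫ (AlgSp.yon S).map z = (ιU.app i).hom ≫ uu ≫ x₂) →
        ∃! fz : Us ⟶ Zs, (AlgSp.yon S).map fz ≫ (AlgSp.yon S).map z = uu ≫ x₂ ∧
          ∀ i, (ιU.app i).hom ≫ (AlgSp.yon S).map fz = (φ.app i).hom

variable {c : Cocone D} {R : Space S} {a : R.obj ⟶ c.pt.left.obj} {D' : I ⥤ Over B} {α : D' ⟶ D}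
  {σ : ∀ i, (D'.obj i).left.obj ⟶ R.obj}

theorem existsUnique_extend (hext : AffExt c) (ha : IsEtaleMor a)
    (hσ : ∀ ⦃i j : I⦄ (g : i ⟶ j), (D'.map g).left.hom ≫ σ j = σ i)
    (hsq : ∀ i, IsPullback (α.app i).left.hom (σ i) (c.ι.app i).left.hom a)
    {B' Zs : Over S} [IsAffine B'.left] [IsAffine Zs.left] (b : (yon S).obj B' ⟶ B.obj) (hb : RepWith @Etale b)
    (z : Zs ⟶ B') (x₂ : R.obj ⟶ (yon S).obj B') (hx₂ : x₂ ≫ b = a ≫ c.pt.hom.hom)
    (φ : ∀ i, (D'.obj i).left.obj ⟶ (yon S).obj Zs)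
    (hφ : ∀ ⦃i j : I⦄ (g : i ⟶ j), (D'.map g).left.hom ≫ φ j = φ i)
    (hφz : ∀ i, φ i ≫ (yon S).map z = σ i ≫ x₂) :
    ∃! g : R.obj ⟶ (yon S).obj Zs, g ≫ (yon S).map z = x₂ ∧ ∀ i, σ i ≫ g = φ i := by
  let B'' : Space S := ⟨(yon S).obj B', IsAlgSpace.yon_obj _⟩
  let XB : Space S := pb (A := c.pt.left) (B := B'') (C := B) c.pt.hom.hom b
  let t : R.obj ⟶ XB.obj := pullback.lift a x₂ hx₂.symm
  have hbe : IsEtaleMor b := fun U ψ hψ => repWith_comp hψ hb
  have hx₁ : IsEtaleMor (pullback.fst c.pt.hom.hom b) :=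
    etale_of_isPullback (X := B'') (Y := B) (Y' := c.pt.left) (X' := XB)
      (IsPullback.of_hasPullback c.pt.hom.hom b).flip hbe
  have ht : IsEtaleMor t := isEtaleMor_of_locP_etale R.property XB.property
    (locP_etale_of_comp R.property XB.property c.pt.left.property
      (by rw [pullback.lift_fst]; exact locP_etale_of_isEtaleMor ha) (locP_etale_of_isEtaleMor hx₁))
  -- on affine charts
  have loc : ∀ (Us : Over S), IsAffine Us.left → ∀ r : (yon S).obj Us ⟶ R.obj, RepWith @Etale r →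
      ∃! fz : (yon S).obj Us ⟶ (yon S).obj Zs, fz ≫ (yon S).map z = r ≫ x₂ ∧
        ∀ (T : Sp S) (i : I) (x : T ⟶ (D'.obj i).left.obj) (y : T ⟶ (yon S).obj Us),
          x ≫ σ i = y ≫ r → y ≫ fz = x ≫ φ i := by
    intro Us hUs r hr
    obtain ⟨DU, αU, σU, hσU, hsqU, -, -⟩ := exists_sys (Q := (⟨(yon S).obj Us, IsAlgSpace.yon_obj _⟩ : Space S))
      (fun i => (c.ι.app i).left.hom) (cocone_w c) (r ≫ a) (etale_comp (fun U ψ hψ => repWith_comp hψ hr) ha)
    let ρ : ∀ i, (DU.obj i).left.obj ⟶ (D'.obj i).left.obj := fun i =>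
      (hsq i).lift (αU.app i).left.hom (σU i ≫ r) (by rw [(hsqU i).w, Category.assoc])
    have hρ₁ : ∀ i, ρ i ≫ (α.app i).left.hom = (αU.app i).left.hom := fun i => (hsq i).lift_fst _ _ _
    have hρ₂ : ∀ i, ρ i ≫ σ i = σU i ≫ r := fun i => (hsq i).lift_snd _ _ _
    have hρn : ∀ ⦃i j : I⦄ (g : i ⟶ j), (DU.map g).left.hom ≫ ρ j = ρ i ≫ (D'.map g).left.hom := by
      intro i j g
      apply (hsq j).hom_ext
      · rw [Category.assoc, hρ₁, Category.assoc,
          show (D'.map g).left.hom ≫ (α.app j).left.hom = (α.app i).left.hom ≫ (D.map g).left.hom from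
            congrArg (fun e => e.left.hom) (α.naturality g), reassoc_of% (hρ₁ i)]
        exact congrArg (fun e => e.left.hom) (αU.naturality g)
      · rw [Category.assoc, hρ₂, Category.assoc, hσ g, hρ₂, reassoc_of% (hσU g)]
    obtain ⟨fz, ⟨h₁, h₂⟩, hu⟩ := hext B' Zs Us b z (XB := XB) (ObjectProperty.homMk (pullback.fst _ _))
      (pullback.snd _ _) (r ≫ t) (DU ⋙ Over.forget B) (Functor.whiskerRight αU (Over.forget B))
      { app := fun i => ObjectProperty.homMk (σU i)
        naturality := fun i j g => InducedCategory.hom_ext (by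
          change (DU.map g).left.hom ≫ σU j = σU i ≫ 𝟙 _
          rw [hσU g, Category.comp_id]) }
      { app := fun i => ObjectProperty.homMk (ρ i ≫ φ i)
        naturality := fun i j g => InducedCategory.hom_ext (by
          change (DU.map g).left.hom ≫ ρ j ≫ φ j = (ρ i ≫ φ i) ≫ 𝟙 _
          rw [reassoc_of% (hρn g), hφ g, Category.comp_id]) }
      ‹_› ‹_› hUs hb (IsPullback.of_hasPullback _ _) (ht r hr)
      (fun i => by
        change IsPullback (σU i) (αU.app i).left.hom ((r ≫ t) ≫ pullback.fst _ _) _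
        rw [Category.assoc, pullback.lift_fst]
        exact (hsqU i).flip)
      (fun i => by
        change (ρ i ≫ φ i) ≫ _ = σU i ≫ (r ≫ t) ≫ pullback.snd _ _
        rw [Category.assoc, hφz, reassoc_of% (hρ₂ i), Category.assoc, pullback.lift_snd])
    refine ⟨(yon S).map fz, ⟨by rw [h₁, Category.assoc, pullback.lift_snd], fun T i x y h => ?_⟩, fun g hg => ?_⟩
    · let p := (hsqU i).lift (x ≫ (α.app i).left.hom) y (by
        rw [Category.assoc, (hsq i).w, reassoc_of% h])
      have hp : p ≫ ρ i = x := (hsq i).hom_ext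
        (by rw [Category.assoc, hρ₁, (hsqU i).lift_fst])
        (by rw [Category.assoc, hρ₂, ← Category.assoc, (hsqU i).lift_snd, h])
      rw [← (hsqU i).lift_snd (x ≫ (α.app i).left.hom) y (by rw [Category.assoc, (hsq i).w, reassoc_of% h]),
        Category.assoc]
      exact ((congrArg (p ≫ ·) (h₂ i)).trans (Category.assoc p (ρ i) (φ i)).symm).trans (by rw [hp])
    · obtain ⟨g', rfl⟩ := (yon S).map_surjective g
      have := hu g' ⟨by rw [hg.1, Category.assoc, pullback.lift_snd], fun i => hg.2 _ i (ρ i) (σU i) (hρ₂ i)⟩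
      rw [this]
  obtain ⟨κ, U, r, hU, hr, hcov'⟩ := exists_affine_cover R.property
  have hre : ∀ k, IsEtaleMor (r k) := fun k V ψ hψ => repWith_comp hψ (hr k)
  have hcov : IsFpqcCover (fun k => (yon S).obj (U k)) r :=
    isFpqcCover_etale (U := fun k => (⟨(yon S).obj (U k), IsAlgSpace.yon_obj _⟩ : Space S)) hre
      fun x => by obtain ⟨k, w, hw⟩ := hcov' x; exact ⟨k, w, hw⟩
  choose g hg hgu using fun k => loc (U k) (hU k) (r k) (hr k)
  obtain ⟨G, hG⟩ := Gabber15.exists_hom_glue R.property hcov (IsAlgSpace.yon_obj Zs) g fun k l => by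
    have hRkl : IsAlgSpace (pullback (r k) (r l)) :=
      isAlgSpace_pullback R.property (IsAlgSpace.yon_obj _) (IsAlgSpace.yon_obj _) (IsPullback.of_hasPullback _ _)
    obtain ⟨κ', V, q, hV, hq, hcq⟩ := exists_affine_cover hRkl
    have hqe : ∀ m, IsEtaleMor (q m) := fun m W ψ hψ => repWith_comp hψ (hq m)
    refine Gabber15.hom_ext_cover (isFpqcCover_etale (X := ⟨_, hRkl⟩)
      (U := fun m => (⟨(yon S).obj (V m), IsAlgSpace.yon_obj _⟩ : Space S)) hqe
      fun x => by obtain ⟨m, w, hw⟩ := hcq x; exact ⟨m, w, hw⟩) (IsAlgSpace.yon_obj Zs) fun m => ?_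
    have hrep : RepWith @Etale ((q m ≫ pullback.fst (r k) (r l)) ≫ r k) :=
      repWith_comp (repWith_comp (hq m) (repWith_of_isPullback (IsPullback.of_hasPullback (r k) (r l)).flip (hr l)))
        (hr k)
    obtain ⟨f₀, -, hu₀⟩ := loc (V m) (hV m) _ hrep
    have h₁ := hu₀ ((q m ≫ pullback.fst _ _) ≫ g k) ⟨by rw [Category.assoc, (hg k).1]; simp only [Category.assoc],
      fun T i x y h => by
        rw [← Category.assoc]
        exact (hg k).2 T i x _ (by rw [h]; simp only [Category.assoc])⟩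
    have h₂ := hu₀ ((q m ≫ pullback.snd _ _) ≫ g l) ⟨by
        rw [Category.assoc, (hg l).1]; simp only [Category.assoc, pullback.condition_assoc],
      fun T i x y h => by
        rw [← Category.assoc]
        exact (hg l).2 T i x _ (by rw [h]; simp only [Category.assoc, pullback.condition])⟩
    have := h₁.trans h₂.symm
    simpa only [Category.assoc] using this
  refine ⟨G, ⟨Gabber15.hom_ext_cover hcov (IsAlgSpace.yon_obj B') fun k => by rw [reassoc_of% (hG k), (hg k).1],
    fun i => ?_⟩, fun G' hG' => Gabber15.hom_ext_cover hcov (IsAlgSpace.yon_obj Zs) fun k => ?_⟩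
  · have hcovi := isFpqcCover_of_isPullback R.property (D'.obj i).left.property (σ i)
      (fun k => IsAlgSpace.yon_obj (U k)) (fun k => IsPullback.of_hasPullback (σ i) (r k)) hcov
    refine Gabber15.hom_ext_cover hcovi (IsAlgSpace.yon_obj Zs) fun k => ?_
    show pullback.fst (σ i) (r k) ≫ σ i ≫ G = pullback.fst (σ i) (r k) ≫ φ i
    rw [pullback.condition_assoc, hG k]
    exact (hg k).2 _ i _ _ pullback.condition
  · rw [hG k]
    exact hgu k _ ⟨by rw [Category.assoc, hG'.1], fun T i x y h => by rw [← reassoc_of% h, hG'.2 i]⟩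

end Groth.Agent.EtColim25
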